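import Cfsg.Agent.Lib.Cert.J3.T3.A

set_option autoImplicit false
set_option maxRecDepth 100000

namespace Cfsg.Agent.Ct.J3.L3

open Cfsg.Agent.PC

theorem a32000 : Nat.beq (rng aux (nat_lit 32000) (nat_lit 4000)) (nat_lit 0) = true := by decide +kernel
theorem a36000 : Nat.beq (rng aux (nat_lit 36000) (nat_lit 4000)) (nat_lit 0) = true := by decide +kernel
theorem a40000 : Nat.beq (rng aux (nat_lit 40000) (nat_lit 4000)) (nat_lit 0) = true := by decide +kernel
theorem a44000 : Nat.beq (rng aux (nat_lit 44000) (nat_lit 4000)) (nat_lit 0) = true := by decide +kernel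
theorem a48000 : Nat.beq (rng aux (nat_lit 48000) (nat_lit 3859)) (nat_lit 0) = true := by decide +kernel

end Cfsg.Agent.Ct.J3.L3
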