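import Cfsg.Agent.Lib.Cert.J3.T3.R0
import Cfsg.Agent.Lib.Cert.J3.T3.R1
import Cfsg.Agent.Lib.Cert.J3.T3.R2

set_option autoImplicit false
set_option maxRecDepth 100000

namespace Cfsg.Agent.Ct.J3.L3

open Cfsg.Agent.PC

theorem rows : ∀ i < 6156, row i = 0 := by
  have h := zero_lt_zero row
  have h := zero_lt_add (a := (nat_lit 0)) (n := (nat_lit 2000)) (b := (nat_lit 2000)) h r0 rfl
  have h := zero_lt_add (a := (nat_lit 2000)) (n := (nat_lit 2000)) (b := (nat_lit 4000)) h r2000 rfl
  have h := zero_lt_add (a := (nat_lit 4000)) (n := (nat_lit 2000)) (b := (nat_lit 6000)) h r4000 rfl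
  have h := zero_lt_add (a := (nat_lit 6000)) (n := (nat_lit 156)) (b := (nat_lit 6156)) h r6000 rfl
  exact h
theorem auxs : ∀ i < 51859, aux i = 0 := by
  have h := zero_lt_zero aux
  have h := zero_lt_add (a := (nat_lit 0)) (n := (nat_lit 4000)) (b := (nat_lit 4000)) h a0 rfl
  have h := zero_lt_add (a := (nat_lit 4000)) (n := (nat_lit 4000)) (b := (nat_lit 8000)) h a4000 rfl
  have h := zero_lt_add (a := (nat_lit 8000)) (n := (nat_lit 4000)) (b := (nat_lit 12000)) h a8000 rfl
  have h := zero_lt_add (a := (nat_lit 12000)) (n := (nat_lit 4000)) (b := (nat_lit 16000)) h a12000 rfl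
  have h := zero_lt_add (a := (nat_lit 16000)) (n := (nat_lit 4000)) (b := (nat_lit 20000)) h a16000 rfl
  have h := zero_lt_add (a := (nat_lit 20000)) (n := (nat_lit 4000)) (b := (nat_lit 24000)) h a20000 rfl
  have h := zero_lt_add (a := (nat_lit 24000)) (n := (nat_lit 4000)) (b := (nat_lit 28000)) h a24000 rfl
  have h := zero_lt_add (a := (nat_lit 28000)) (n := (nat_lit 4000)) (b := (nat_lit 32000)) h a28000 rfl
  have h := zero_lt_add (a := (nat_lit 32000)) (n := (nat_lit 4000)) (b := (nat_lit 36000)) h a32000 rfl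
  have h := zero_lt_add (a := (nat_lit 36000)) (n := (nat_lit 4000)) (b := (nat_lit 40000)) h a36000 rfl
  have h := zero_lt_add (a := (nat_lit 40000)) (n := (nat_lit 4000)) (b := (nat_lit 44000)) h a40000 rfl
  have h := zero_lt_add (a := (nat_lit 44000)) (n := (nat_lit 4000)) (b := (nat_lit 48000)) h a44000 rfl
  have h := zero_lt_add (a := (nat_lit 48000)) (n := (nat_lit 3859)) (b := (nat_lit 51859)) h a48000 rfl
  exact h
theorem closes.{u} : ClosesT.{u} (fun j => j) rels 4 3 6156 T :=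
  hc_closes (N1 := (nat_lit 6155)) rfl T_eq (by decide +kernel) rows auxs
theorem T_inv : ∀ c < 6156, ∀ j < 4, T j c < 6156 ∧ T j (T j c) = c := 
  hc_inv (inv := (fun j => j)) (N1 := (nat_lit 6155)) rfl T_eq rows

end Cfsg.Agent.Ct.J3.L3
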